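import Mathlib

/-!
Dimensions of cones at the vertex: homogeneous chains and intersections.
-/

set_option autoImplicit false

namespace Groth.Agent.ConeDim

open MvPolynomial TensorProduct

universe u v

variable {k : Type u} [Field k] {σ : Type v}

attribute [local instance] MvPolynomial.gradedAlgebra

local notation "Poly" => MvPolynomial σ k
local notation "M" => RingHom.ker (MvPolynomial.constantCoeff : MvPolynomial σ k →+* k)

theorem comap_strictMono {R : Type*} {R' : Type*} [CommRing R] [CommRing R'] (f : R →+* R')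
    (hf : Function.Surjective f) : StrictMono (PrimeSpectrum.comap f) := fun _ _ hxy =>
  lt_of_le_of_ne (Ideal.comap_mono hxy.le) fun h =>
    hxy.ne (PrimeSpectrum.comap_injective_of_surjective f hf h)

/-- A series of primes above an ideal, in the quotient. -/
theorem exists_quotient_series {R : Type*} [CommRing R] (I : Ideal R)
    (l : LTSeries (PrimeSpectrum R)) (hI : I ≤ l.head.asIdeal) :
    ∃ l' : LTSeries (PrimeSpectrum (R ⧸ I)), l'.length = l.length ∧
      l'.head.asIdeal.comap (Ideal.Quotient.mk I) = l.head.asIdeal ∧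
      l'.last.asIdeal.comap (Ideal.Quotient.mk I) = l.last.asIdeal ∧
      l'.last.asIdeal = l.last.asIdeal.map (Ideal.Quotient.mk I) := by
  have hIl : ∀ i, I ≤ (l i).asIdeal := fun i => hI.trans (l.head_le i)
  let g : Fin (l.length + 1) → PrimeSpectrum (R ⧸ I) := fun i =>
    ⟨(l i).asIdeal.map (Ideal.Quotient.mk I),
      Ideal.map_isPrime_of_surjective Ideal.Quotient.mk_surjective (by
        rw [Ideal.mk_ker]; exact hIl i)⟩
  have hg : ∀ i, (g i).asIdeal.comap (Ideal.Quotient.mk I) = (l i).asIdeal := fun i => by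
    rw [Ideal.comap_map_of_surjective _ Ideal.Quotient.mk_surjective, ← RingHom.ker_eq_comap_bot,
      Ideal.mk_ker]
    exact sup_eq_left.2 (hIl i)
  refine ⟨LTSeries.mk l.length g fun i j hij => ?_, rfl, hg 0, hg (Fin.last _), rfl⟩
  refine lt_of_le_of_ne (Ideal.map_mono (l.strictMono hij).le) fun h => (l.strictMono hij).ne ?_
  exact PrimeSpectrum.ext (by rw [← hg i, ← hg j, h])

/-- Cutting by few elements lowers the height by at most their number. -/
theorem exists_series_cut {R : Type*} {R₀ : Type*} [CommRing R] [CommRing R₀] [IsNoetherianRing R]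
    (P : Ideal R) [P.IsPrime] {s : Set R} (hs : s ⊆ P) {n c : ℕ} (hc : s.encard ≤ c)
    (hn : (n : ℕ∞) ≤ P.height) (f : R₀ →+* R) (hf : ∀ t, ∃ u, f u - t ∈ Ideal.span s) :
    ∃ L : LTSeries (PrimeSpectrum R₀), L.length = n - c ∧
      (∀ v, f v ∈ Ideal.span s → v ∈ L.head.asIdeal) ∧ L.last.asIdeal = P.comap f := by
  let J := Ideal.span s
  have hJ : J ≤ P := Ideal.span_le.2 hs
  have hP : (P.map (Ideal.Quotient.mk J)).IsPrime :=
    Ideal.map_isPrime_of_surjective Ideal.Quotient.mk_surjective (by rw [Ideal.mk_ker]; exact hJ)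
  have h : ((n - c : ℕ) : ℕ∞) ≤ (P.map (Ideal.Quotient.mk J)).height := by
    rw [ENat.natCast_sub, tsub_le_iff_right]
    exact hn.trans ((Ideal.height_le_height_add_encard_of_subset _ hs).trans (add_le_add_right hc _))
  obtain ⟨l, hl, hlen⟩ := Order.exists_series_of_le_height (⟨_, hP⟩ : PrimeSpectrum (R ⧸ J))
    (h.trans (PrimeSpectrum.height_eq_orderHeight ⟨_, hP⟩).le)
  have hφ : Function.Surjective ((Ideal.Quotient.mk J).comp f) := fun z => by
    obtain ⟨t, rfl⟩ := Ideal.Quotient.mk_surjective z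
    obtain ⟨u, hu⟩ := hf t
    exact ⟨u, Ideal.Quotient.eq.2 hu⟩
  refine ⟨l.map _ (comap_strictMono _ hφ), hlen, fun v hv => ?_, ?_⟩
  · rw [LTSeries.head_map]
    show Ideal.Quotient.mk J (f v) ∈ l.head.asIdeal
    rw [Ideal.Quotient.eq_zero_iff_mem.2 hv]
    exact zero_mem _
  · rw [LTSeries.last_map, hl]
    show (P.map (Ideal.Quotient.mk J)).comap ((Ideal.Quotient.mk J).comp f) = _
    rw [← Ideal.comap_comap, Ideal.comap_map_of_surjective _ Ideal.Quotient.mk_surjective,
      ← RingHom.ker_eq_comap_bot, Ideal.mk_ker, sup_eq_left.2 hJ]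

/-- The height of a point of a product over a field. -/
theorem exists_height_add_le {F : Type*} {A : Type*} {B : Type*} [Field F] [CommRing A] [CommRing B] [Algebra F A]
    [Algebra F B] (e : A →ₐ[F] F) (lA : LTSeries (PrimeSpectrum A)) (lB : LTSeries (PrimeSpectrum B))
    (he : lA.last.asIdeal = RingHom.ker e) :
    ((lA.length + lB.length : ℕ) : ℕ∞) ≤ (lB.last.asIdeal.comap (Algebra.TensorProduct.lift
      ((Algebra.ofId F B).comp e) (AlgHom.id F B) fun _ _ => Commute.all _ _)).height := by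
  let π : A ⊗[F] B →ₐ[F] B := Algebra.TensorProduct.lift
    ((Algebra.ofId F B).comp e) (AlgHom.id F B) fun _ _ => Commute.all _ _
  have hπs : Function.Surjective π := fun b => ⟨1 ⊗ₜ b, by simp [π]⟩
  let L2 : LTSeries (PrimeSpectrum (A ⊗[F] B)) :=
    lB.map (PrimeSpectrum.comap π.toRingHom) (comap_strictMono π.toRingHom hπs)
  have hlo : L2.head.asIdeal.LiesOver lA.last.asIdeal := ⟨by
    rw [he]
    ext a
    change _ ↔ π (a ⊗ₜ (1 : B)) ∈ lB.head.asIdeal
    rw [show π (a ⊗ₜ (1 : B)) = algebraMap F B (e a) by simp [π], RingHom.mem_ker]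
    refine ⟨fun h => by rw [h, map_zero]; exact zero_mem _, fun h => ?_⟩
    by_contra hne
    exact lB.head.isPrime.ne_top (Ideal.eq_top_of_isUnit_mem _ h
      ((isUnit_iff_ne_zero.2 hne).map (algebraMap F B)))⟩
  obtain ⟨L1, hL1len, hL1last, -⟩ := Ideal.exists_ltSeries_of_hasGoingDown lA L2.head.asIdeal
  let L := L1.smash L2 hL1last
  have hlast : L.last = PrimeSpectrum.comap π.toRingHom lB.last := by
    rw [RelSeries.last_smash, LTSeries.last_map]
  have h := Order.length_le_height (p := L) hlast.le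
  rw [show L.length = lA.length + lB.length by show L1.length + lB.length = _; rw [hL1len]] at h
  exact h.trans (PrimeSpectrum.height_eq_orderHeight (PrimeSpectrum.comap π.toRingHom lB.last)).ge

theorem vertex_isMaximal : (M).IsMaximal :=
  RingHom.ker_isMaximal_of_surjective _ fun c => ⟨C c, constantCoeff_C σ c⟩

theorem span_X_eq : (M) = Ideal.span (Set.range (X : σ → Poly)) := by
  refine le_antisymm (fun f hf => ?_) (Ideal.span_le.2 ?_)
  · have h : f - C (constantCoeff f) ∈ Ideal.span (Set.range (X : σ → Poly)) := by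
      clear hf
      induction f using MvPolynomial.induction_on with
      | C a => simp
      | add p q hp hq =>
        have : p + q - C (constantCoeff (p + q)) = (p - C (constantCoeff p)) + (q - C (constantCoeff q)) := by
          rw [map_add, map_add]; ring
        rw [this]; exact add_mem hp hq
      | mul_X p i hp =>
        rw [map_mul, constantCoeff_X, mul_zero, map_zero, sub_zero]
        exact Ideal.mul_mem_left _ _ (Ideal.subset_span ⟨i, rfl⟩)
    rwa [RingHom.mem_ker.1 hf, map_zero, sub_zero] at h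
  · rintro _ ⟨i, rfl⟩
    show constantCoeff (X i : Poly) = 0
    simp

theorem proj_zero (f : Poly) : GradedRing.proj (homogeneousSubmodule σ k) 0 f = C (constantCoeff f) := by
  rw [GradedRing.proj_apply]
  show ((MvPolynomial.decomposition.decompose' f) 0 : Poly) = _
  rw [MvPolynomial.decomposition.decompose'_apply,
    homogeneousComponent_zero, constantCoeff_eq]

theorem le_vertex_of_isHomogeneous {I : Ideal Poly} (hI : I.IsHomogeneous (homogeneousSubmodule σ k))
    (hne : I ≠ ⊤) : I ≤ (M) := by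
  intro f hf
  rw [RingHom.mem_ker]
  by_contra h
  refine hne (Ideal.eq_top_of_isUnit_mem _ ?_ ((isUnit_iff_ne_zero.2 h).map (C (σ := σ))))
  have := hI 0 hf
  rwa [← GradedRing.proj_apply, proj_zero] at this

theorem isHomogeneous_of_mem_minimalPrimes {I Q : Ideal Poly}
    (hI : I.IsHomogeneous (homogeneousSubmodule σ k)) (hQ : Q ∈ I.minimalPrimes) :
    Q.IsHomogeneous (homogeneousSubmodule σ k) := by
  have h1 : I ≤ (Q.homogeneousCore (homogeneousSubmodule σ k)).toIdeal :=
    le_trans hI.toIdeal_homogeneousCore_eq_self.ge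
      (Ideal.homogeneousCore_mono (homogeneousSubmodule σ k) hQ.1.2)
  have hle := Ideal.toIdeal_homogeneousCore_le (homogeneousSubmodule σ k) Q
  have h2 : Q = (Q.homogeneousCore (homogeneousSubmodule σ k)).toIdeal :=
    le_antisymm (hQ.2 ⟨hQ.1.1.homogeneousCore, h1⟩ hle) hle
  rw [h2]
  exact HomogeneousIdeal.isHomogeneous _

/-- A chain of primes above `I` ending at the vertex bounds the height of the vertex in the cone. -/
theorem length_le_height {I : Ideal Poly} (l : LTSeries (PrimeSpectrum Poly)) (hI : I ≤ l.head.asIdeal)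
    (hl : l.last.asIdeal = (M)) :
    (l.length : ℕ∞) ≤ ((M).map (Ideal.Quotient.mk I)).height := by
  obtain ⟨l', hlen, -, -, hlast⟩ := exists_quotient_series I l hI
  rw [← hl, ← hlast, PrimeSpectrum.height_eq_orderHeight, ← hlen]
  exact Order.length_le_height le_rfl

variable [Finite σ]

/-- A homogeneous cone of dimension above `d` carries a chain of `d + 1` homogeneous primes
different from the vertex. -/
theorem exists_homogeneous_chain (d : ℕ) : ∀ (Q : Ideal Poly) [Q.IsPrime],
    Q.IsHomogeneous (homogeneousSubmodule σ k) →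
    ((d + 1 : ℕ) : ℕ∞) ≤ ((M).map (Ideal.Quotient.mk Q)).height →
    ∃ l : LTSeries (PrimeSpectrum Poly), l.length = d ∧ l.head.asIdeal = Q ∧
      ∀ i, (l i).asIdeal.IsHomogeneous (homogeneousSubmodule σ k) ∧ (l i).asIdeal < (M) := by
  induction d with
  | zero =>
    intro Q hQp hQ hd
    refine ⟨RelSeries.singleton _ ⟨Q, hQp⟩, rfl, rfl, fun i => ⟨hQ, ?_⟩⟩
    refine lt_of_le_of_ne (le_vertex_of_isHomogeneous hQ hQp.ne_top) fun h => ?_
    subst h
    rw [Ideal.map_quotient_self, Ideal.height_bot] at hd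
    simp at hd
  | succ d ih =>
    intro Q hQp hQ hd
    have hQM : Q < (M) := by
      refine lt_of_le_of_ne (le_vertex_of_isHomogeneous hQ hQp.ne_top) fun h => ?_
      subst h
      rw [Ideal.map_quotient_self, Ideal.height_bot] at hd
      simp at hd
    obtain ⟨i, hi⟩ : ∃ i, (X i : Poly) ∉ Q := by
      by_contra h
      push Not at h
      refine hQM.not_ge ?_
      rw [span_X_eq, Ideal.span_le]
      rintro _ ⟨i, rfl⟩
      exact h i
    have hM := vertex_isMaximal (k := k) (σ := σ)
    have hPp : ((M).map (Ideal.Quotient.mk Q)).IsPrime :=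
      Ideal.map_isPrime_of_surjective Ideal.Quotient.mk_surjective (by rw [Ideal.mk_ker]; exact hQM.le)
    set a := Ideal.Quotient.mk Q (X i : Poly) with ha
    have haP : a ∈ (M).map (Ideal.Quotient.mk Q) :=
      Ideal.mem_map_of_mem _ (show constantCoeff (X i : Poly) = 0 by simp : (X i : Poly) ∈ (M))
    obtain ⟨L, hlen, hLhead, hLl⟩ := exists_series_cut ((M).map (Ideal.Quotient.mk Q))
      (s := {a}) (Set.singleton_subset_iff.2 haP) (c := 1) (Set.encard_singleton a).le hd
      (Ideal.Quotient.mk Q) (fun t => by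
        obtain ⟨u, rfl⟩ := Ideal.Quotient.mk_surjective t
        exact ⟨u, by rw [sub_self]; exact zero_mem _⟩)
    have hLlast : L.last.asIdeal = (M) := by
      rw [hLl, Ideal.comap_map_of_surjective _ Ideal.Quotient.mk_surjective, ← RingHom.ker_eq_comap_bot,
        Ideal.mk_ker, sup_eq_left.2 hQM.le]
    have hhead : Q ⊔ Ideal.span {(X i : Poly)} ≤ L.head.asIdeal :=
      sup_le (fun f hf => hLhead f (by rw [Ideal.Quotient.eq_zero_iff_mem.2 hf]; exact zero_mem _))
        ((Ideal.span_singleton_le_iff_mem _).2 (hLhead _ (Ideal.mem_span_singleton_self a)))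
    obtain ⟨Q1, hQ1, hQ1le⟩ := Ideal.exists_minimalPrimes_le hhead
    have : Q1.IsPrime := hQ1.1.1
    have hh : (Q ⊔ Ideal.span {(X i : Poly)}).IsHomogeneous (homogeneousSubmodule σ k) :=
      hQ.sup (Ideal.homogeneous_span _ _ (by
        rintro _ rfl
        exact ⟨1, isHomogeneous_X k i⟩))
    obtain ⟨l', hl'len, hl'head, hl'⟩ := ih Q1 (isHomogeneous_of_mem_minimalPrimes hh hQ1) (by
      refine le_trans ?_ (length_le_height L hQ1le hLlast)
      rw [show L.length = d + 1 from hlen.trans (by omega)])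
    have hlt : (⟨Q, hQp⟩ : PrimeSpectrum Poly) < l'.head := by
      refine lt_of_le_of_ne ?_ fun h => hi ?_
      · show Q ≤ l'.head.asIdeal
        rw [hl'head]; exact le_sup_left.trans hQ1.1.2
      · have h' : Q = Q1 := (congrArg PrimeSpectrum.asIdeal h).trans hl'head
        rw [h']
        exact hQ1.1.2 (Ideal.mem_sup_right (Ideal.mem_span_singleton_self _))
    refine ⟨l'.cons ⟨Q, hQp⟩ hlt, by simp [hl'len], by simp, fun j => ?_⟩
    rcases Fin.eq_zero_or_eq_succ (Fin.cast (by simp) j : Fin (l'.length + 1 + 1)) with hj | ⟨j', hj⟩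
    · have : (l'.cons ⟨Q, hQp⟩ hlt) j = ⟨Q, hQp⟩ := by
        rw [show j = 0 from Fin.ext (by simpa using congrArg Fin.val hj)]
        exact RelSeries.head_cons _ _ _
      rw [this]
      exact ⟨hQ, hQM⟩
    · have : (l'.cons ⟨Q, hQp⟩ hlt) j = l' j' := by
        rw [show j = Fin.cast (by simp) j'.succ from Fin.ext (by simpa using congrArg Fin.val hj)]
        exact RelSeries.cons_cast_succ _ _ _ _
      rw [this]
      exact hl' j'

set_option maxHeartbeats 600000 in
/-- The intersection of two cones. -/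
theorem exists_prime_of_chains (p q : Ideal Poly)
    (hp : p.IsHomogeneous (homogeneousSubmodule σ k)) (hq : q.IsHomogeneous (homogeneousSubmodule σ k))
    (lp lq : LTSeries (PrimeSpectrum Poly)) (hp0 : p ≤ lp.head.asIdeal) (hpl : lp.last.asIdeal = (M))
    (hq0 : q ≤ lq.head.asIdeal) (hql : lq.last.asIdeal = (M)) :
    ∃ Q : Ideal Poly, Q.IsPrime ∧ Q.IsHomogeneous (homogeneousSubmodule σ k) ∧ p ≤ Q ∧ q ≤ Q ∧
      ((lp.length + lq.length - Nat.card σ : ℕ) : ℕ∞) ≤ ((M).map (Ideal.Quotient.mk Q)).height := by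
  classical
  have hM := vertex_isMaximal (k := k) (σ := σ)
  have hpM : p ≤ (M) :=
    hp0.trans ((show lp.head.asIdeal ≤ lp.last.asIdeal from lp.head_le _).trans hpl.le)
  obtain ⟨lA, hlAlen, -, hlAc, -⟩ := exists_quotient_series p lp hp0
  obtain ⟨lB, hlBlen, -, hlBc, hlBm⟩ := exists_quotient_series q lq hq0
  let e : (Poly ⧸ p) →ₐ[k] k := Ideal.Quotient.liftₐ p (aeval fun _ => (0 : k)) fun f hf => by
    rw [MvPolynomial.aeval_zero']
    exact hpM hf
  have he : ∀ f, e (Ideal.Quotient.mk p f) = constantCoeff f := fun f => MvPolynomial.aeval_zero' f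
  have heA : lA.last.asIdeal = RingHom.ker e := by
    refine Ideal.comap_injective_of_surjective (Ideal.Quotient.mk p) Ideal.Quotient.mk_surjective ?_
    refine (hlAc.trans hpl).trans ?_
    ext f
    rw [Ideal.mem_comap, RingHom.mem_ker, RingHom.mem_ker, he]
  have hh := exists_height_add_le e lA lB heA
  rw [hlAlen, hlBlen] at hh
  let δ : σ → (Poly ⧸ p) ⊗[k] (Poly ⧸ q) := fun i =>
    (Ideal.Quotient.mk p (X i)) ⊗ₜ (1 : Poly ⧸ q) - (1 : Poly ⧸ p) ⊗ₜ (Ideal.Quotient.mk q (X i))
  have : IsNoetherianRing ((Poly ⧸ p) ⊗[k] (Poly ⧸ q)) := Algebra.FiniteType.isNoetherianRing (Poly ⧸ p) ((Poly ⧸ p) ⊗[k] (Poly ⧸ q))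
  let inl : Poly →ₐ[k] (Poly ⧸ p) ⊗[k] (Poly ⧸ q) :=
    (Algebra.TensorProduct.includeLeft).comp (Ideal.Quotient.mkₐ k p)
  let inr : Poly →ₐ[k] (Poly ⧸ p) ⊗[k] (Poly ⧸ q) :=
    (Algebra.TensorProduct.includeRight).comp (Ideal.Quotient.mkₐ k q)
  have hdiag : ∀ f, inl f - inr f ∈ Ideal.span (Set.range δ) := fun f => by
    induction f using MvPolynomial.induction_on with
    | C a =>
      rw [← MvPolynomial.algebraMap_eq, AlgHom.commutes, AlgHom.commutes, sub_self]
      exact zero_mem _
    | add f g hf hg =>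
      rw [map_add, map_add, add_sub_add_comm]
      exact add_mem hf hg
    | mul_X f i hf =>
      rw [map_mul, map_mul, show inl f * inl (X i) - inr f * inr (X i) =
        inl f * (inl (X i) - inr (X i)) + inr (X i) * (inl f - inr f) by ring]
      exact add_mem (Ideal.mul_mem_left _ _ (Ideal.subset_span ⟨i, rfl⟩)) (Ideal.mul_mem_left _ _ hf)
  have hs : Set.range δ ⊆ (lB.last.asIdeal.comap (Algebra.TensorProduct.lift
      ((Algebra.ofId k (Poly ⧸ q)).comp e) (AlgHom.id k (Poly ⧸ q)) fun _ _ => Commute.all _ _) :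
      Set ((Poly ⧸ p) ⊗[k] (Poly ⧸ q))) := by
    rintro _ ⟨i, rfl⟩
    simp only [SetLike.mem_coe, Ideal.mem_comap, δ]
    simp only [map_sub, Algebra.TensorProduct.lift_tmul, AlgHom.comp_apply, he, constantCoeff_X,
      map_zero, zero_mul, map_one, one_mul, AlgHom.id_apply, zero_sub, neg_mem_iff]
    rw [hlBm]
    refine Ideal.mem_map_of_mem _ ?_
    rw [hql]; show constantCoeff (X i : Poly) = 0; simp
  have hc : (Set.range δ).encard ≤ Nat.card σ := by
    rw [← Set.image_univ]
    refine (Set.encard_image_le _ _).trans ?_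
    rw [Set.encard_univ, ENat.card_eq_coe_natCard]
  have hsp : ∀ t, ∃ u, inl.toRingHom u - t ∈ Ideal.span (Set.range δ) := by
    intro t
    induction t using TensorProduct.induction_on with
    | zero => exact ⟨0, by rw [map_zero, sub_zero]; exact zero_mem _⟩
    | tmul a b =>
      obtain ⟨f, rfl⟩ := Ideal.Quotient.mk_surjective a
      obtain ⟨g, rfl⟩ := Ideal.Quotient.mk_surjective b
      refine ⟨f * g, ?_⟩
      show inl (f * g) - _ ∈ _
      rw [map_mul, show Ideal.Quotient.mk p f ⊗ₜ[k] Ideal.Quotient.mk q g = inl f * inr g by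
        simp [inl, inr], ← sub_eq_zero.1 (show inl f * (inl g - inr g) - (inl f * inl g - inl f * inr g) = 0 by ring)]
      exact Ideal.mul_mem_left _ _ (hdiag g)
    | add x y hx hy =>
      obtain ⟨f, hf⟩ := hx
      obtain ⟨g, hg⟩ := hy
      exact ⟨f + g, by rw [map_add, add_sub_add_comm]; exact add_mem hf hg⟩
  obtain ⟨L, hlen, hLhead, hLl⟩ := exists_series_cut _ (s := Set.range δ) hs (c := Nat.card σ) hc hh
    inl.toRingHom hsp
  have hLlast : L.last.asIdeal = (M) := by
    refine (hM.eq_of_le L.last.isPrime.ne_top fun f hf => ?_).symm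
    rw [hLl]
    simp only [Ideal.mem_comap]
    simp [inl, he, RingHom.mem_ker.1 hf]
  have hhead : p ⊔ q ≤ L.head.asIdeal := by
    refine sup_le (fun f hf => hLhead f ?_) (fun f hf => hLhead f ?_)
    · show inl f ∈ _
      rw [show inl f = 0 by simp [inl, Ideal.Quotient.eq_zero_iff_mem.2 hf]]
      exact zero_mem _
    · show inl f ∈ _
      have := hdiag f
      rwa [show inr f = 0 by simp [inr, Ideal.Quotient.eq_zero_iff_mem.2 hf], sub_zero] at this
  obtain ⟨Q, hQ, hQle⟩ := Ideal.exists_minimalPrimes_le hhead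
  refine ⟨Q, hQ.1.1, isHomogeneous_of_mem_minimalPrimes (hp.sup hq) hQ,
    le_sup_left.trans hQ.1.2, le_sup_right.trans hQ.1.2, ?_⟩
  rw [← hlen]
  exact length_le_height L hQle hLlast

end Groth.Agent.ConeDim
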